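import Cfsg.Agent.CoThreeStd.DC.Sound_mg
import Cfsg.Agent.CoThreeStd.M12.Model
import Cfsg.Agent.CoThreeStd.Bound.M12Pres_mg
import Cfsg.Agent.Lib.CosetPartial
import Cfsg.Agent.CoThreeStd.Collapse
import Cfsg.Agent.CoThreeStd.DeltaData
import Cfsg.Agent.CoThreeStd.Bound.Final
set_option linter.all false

-- part: CoThreeStd/DC/Model
section
/-!
# The model of `C = K × 2` (`K` a group of permutations of twelve points)
-/

set_option autoImplicit false

namespace Cfsg.Agent.CoThreeStd.DC.Model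

open Cfsg.Agent.CoThreeStd.DC.Eng Cfsg.Agent.CoThreeStd.DC.Sound Cfsg.Agent.CoThreeStd.M12

theorem land_fifteen (n : ℕ) : Nat.land n 15 = n % 16 := Nat.and_two_pow_sub_one_eq_mod n 4

theorem land_sixty (n : ℕ) : Nat.land n 60 = 4 * (n / 4 % 16) := by
  have h1 : n / 4 % 16 = (n >>> 2) &&& 15 := by
    rw [Nat.shiftRight_eq_div_pow]
    exact (Nat.and_two_pow_sub_one_eq_mod _ 4).symm
  have h2 : 4 * (n / 4 % 16) = ((n >>> 2) &&& 15) <<< 2 := by
    rw [h1, Nat.shiftLeft_eq]; ring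
  rw [h2]
  show n &&& 60 = _
  apply Nat.eq_of_testBit_eq
  intro i
  rw [show (60 : ℕ) = 15 <<< 2 from rfl]
  simp only [Nat.testBit_and, Nat.testBit_shiftLeft, Nat.testBit_shiftRight]
  by_cases hi : 2 ≤ i
  · have : 2 + (i - 2) = i := by omega
    simp [hi, this]
  · simp [hi]

theorem sr (a m : ℕ) : Nat.land (Nat.shiftRight a (4 * m)) 15 = dg a m := by
  rw [land_fifteen]
  show (a >>> (4 * m)) % 16 = a / 16 ^ m % 16
  rw [Nat.shiftRight_eq_div_pow, pow_mul, show (2 : ℕ) ^ 4 = 16 by norm_num]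

theorem sl0 (b : ℕ) : Nat.land (Nat.shiftLeft b 2) 60 = 4 * dg b 0 := by
  rw [land_sixty]
  show 4 * ((b <<< 2) / 4 % 16) = 4 * (b / 16 ^ 0 % 16)
  rw [Nat.shiftLeft_eq, pow_zero, Nat.div_one]
  congr 2
  omega

theorem slk (b m : ℕ) : Nat.land (Nat.shiftRight b (4 * m + 2)) 60 = 4 * dg b (m + 1) := by
  rw [land_sixty]
  show 4 * ((b >>> (4 * m + 2)) / 4 % 16) = 4 * (b / 16 ^ (m + 1) % 16)
  rw [Nat.shiftRight_eq_div_pow, Nat.div_div_eq_div_mul]
  have : 2 ^ (4 * m + 2) * 4 = 16 ^ (m + 1) := by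
    rw [pow_add, pow_mul, show (2 : ℕ) ^ 4 = 16 by norm_num, pow_succ 16, mul_assoc]
    norm_num
  rw [this]

/-- `mulN` in terms of digits -/
theorem mulN_eq (a b : ℕ) : mulN a b = pk (dg a (dg b 0)) (dg a (dg b 1)) (dg a (dg b 2)) (dg a (dg b 3))
    (dg a (dg b 4)) (dg a (dg b 5)) (dg a (dg b 6)) (dg a (dg b 7)) (dg a (dg b 8)) (dg a (dg b 9))
    (dg a (dg b 10)) (dg a (dg b 11)) + 16 ^ 12 * Nat.xor (Nat.shiftRight a 48) (Nat.shiftRight b 48) := by
  have k0 : Nat.land (Nat.shiftRight b 2) 60 = 4 * dg b 1 := slk b 0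
  have k1 : Nat.land (Nat.shiftRight b 6) 60 = 4 * dg b 2 := slk b 1
  have k2 : Nat.land (Nat.shiftRight b 10) 60 = 4 * dg b 3 := slk b 2
  have k3 : Nat.land (Nat.shiftRight b 14) 60 = 4 * dg b 4 := slk b 3
  have k4 : Nat.land (Nat.shiftRight b 18) 60 = 4 * dg b 5 := slk b 4
  have k5 : Nat.land (Nat.shiftRight b 22) 60 = 4 * dg b 6 := slk b 5
  have k6 : Nat.land (Nat.shiftRight b 26) 60 = 4 * dg b 7 := slk b 6
  have k7 : Nat.land (Nat.shiftRight b 30) 60 = 4 * dg b 8 := slk b 7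
  have k8 : Nat.land (Nat.shiftRight b 34) 60 = 4 * dg b 9 := slk b 8
  have k9 : Nat.land (Nat.shiftRight b 38) 60 = 4 * dg b 10 := slk b 9
  have k10 : Nat.land (Nat.shiftRight b 42) 60 = 4 * dg b 11 := slk b 10
  unfold mulN
  rw [sl0, k0, k1, k2, k3, k4, k5, k6, k7, k8, k9, k10]
  simp only [sr]
  generalize Nat.xor (Nat.shiftRight a 48) (Nat.shiftRight b 48) = z
  generalize dg a (dg b 0) = x0
  generalize dg a (dg b 1) = x1
  generalize dg a (dg b 2) = x2
  generalize dg a (dg b 3) = x3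
  generalize dg a (dg b 4) = x4
  generalize dg a (dg b 5) = x5
  generalize dg a (dg b 6) = x6
  generalize dg a (dg b 7) = x7
  generalize dg a (dg b 8) = x8
  generalize dg a (dg b 9) = x9
  generalize dg a (dg b 10) = x10
  generalize dg a (dg b 11) = x11
  simp only [Nat.add_eq, Nat.mul_eq]
  unfold pk
  ring

theorem dg_add (s u i : ℕ) (hi : i < 12) : dg (s + 16 ^ 12 * u) i = dg s i := by
  unfold dg
  have h : 16 ^ 12 * u = 16 ^ i * (16 * (16 ^ (11 - i) * u)) := by
    have : (16 : ℕ) ^ 12 = 16 ^ i * (16 * 16 ^ (11 - i)) := by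
      rw [← pow_succ', ← pow_add]
      congr 1
      omega
    rw [this]; ring
  rw [h, Nat.add_mul_div_left _ _ (by positivity), Nat.add_mul_mod_self_left]

theorem top_add {s u : ℕ} (hs : s < 16 ^ 12) : Nat.shiftRight (s + 16 ^ 12 * u) 48 = u := by
  show (s + 16 ^ 12 * u) >>> 48 = u
  rw [Nat.shiftRight_eq_div_pow, show (2 : ℕ) ^ 48 = 16 ^ 12 by norm_num, Nat.add_mul_div_left _ _ (by positivity),
    Nat.div_eq_of_lt hs, zero_add]

/-- product of codes -/
theorem mulN_rep {x y : P12} {s t u v : ℕ} (hx : Rep x s) (hy : Rep y t) :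
    mulN (s + 16 ^ 12 * u) (t + 16 ^ 12 * v) = mulT s t + 16 ^ 12 * Nat.xor u v := by
  rw [mulN_eq, top_add hx.lt, top_add hy.lt]
  have hl : ∀ i : ℕ, (hi : i < 12) → dg (s + 16 ^ 12 * u) (dg (t + 16 ^ 12 * v) i) = dg s (dg t i) := by
    intro i hi
    rw [dg_add t v i hi, dg_add s u]
    rw [hy.dg ⟨i, hi⟩]
    exact (y ⟨i, hi⟩).2
  rw [hl 0 (by norm_num), hl 1 (by norm_num), hl 2 (by norm_num), hl 3 (by norm_num), hl 4 (by norm_num),
    hl 5 (by norm_num), hl 6 (by norm_num), hl 7 (by norm_num), hl 8 (by norm_num), hl 9 (by norm_num),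
    hl 10 (by norm_num), hl 11 (by norm_num)]
  rfl

/-- the table of a permutation -/
def tab (x : P12) : ℕ := pk (x 0) (x 1) (x 2) (x 3) (x 4) (x 5) (x 6) (x 7) (x 8) (x 9) (x 10) (x 11)

theorem tab_rep (x : P12) : Rep x (tab x) := by
  have hf : ∀ i, (fun i : ℕ => if h : i < 12 then ((x ⟨i, h⟩ : Fin 12) : ℕ) else 0) i < 16 := by
    intro i
    dsimp only
    split_ifs with h
    · have := (x ⟨i, h⟩).2; omega
    · norm_num
  constructor
  · intro i
    have := dg_pk (fun i : ℕ => if h : i < 12 then ((x ⟨i, h⟩ : Fin 12) : ℕ) else 0) hf i i.2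
    rw [dif_pos i.2] at this
    exact this
  · exact pk_lt (fun i : ℕ => if h : i < 12 then ((x ⟨i, h⟩ : Fin 12) : ℕ) else 0) hf

/-- the group `K × 2` -/
abbrev CC (K : Subgroup P12) : Type := K × Multiplicative (ZMod 2)

/-- the bit of an element of order at most two -/
def bit (z : Multiplicative (ZMod 2)) : ℕ := (Multiplicative.toAdd z).val

theorem bit_mul : ∀ z w : Multiplicative (ZMod 2), bit (z * w) = Nat.xor (bit z) (bit w) := by decide

theorem bit_inj : ∀ z w : Multiplicative (ZMod 2), bit z = bit w → z = w := by decide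

/-- the code of an element -/
def code {K : Subgroup P12} (c : CC K) : ℕ := tab (c.1 : P12) + 16 ^ 12 * bit c.2

theorem code_mk {K : Subgroup P12} (a : K) (z : Multiplicative (ZMod 2)) :
    code ((a, z) : CC K) = tab (a : P12) + 16 ^ 12 * bit z := rfl

theorem tab_mul (x y : P12) : mulT (tab x) (tab y) = tab (x * y) :=
  (((tab_rep x).mul (tab_rep y)).eq_iff (tab_rep _)).1 rfl

attribute [local irreducible] mulN tab mulT

/-- the coding -/
def mod (K : Subgroup P12) : Sound.Mod (CC K) where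
  cd := code
  inj := by
    rintro ⟨a, z⟩ ⟨b, w⟩ h
    have h1 : tab (a : P12) + 16 ^ 12 * bit z = tab (b : P12) + 16 ^ 12 * bit w := h
    have ha := (tab_rep (a : P12)).lt
    have hb := (tab_rep (b : P12)).lt
    have h2 : tab (a : P12) = tab (b : P12) := by
      have := congrArg (· % 16 ^ 12) h1
      simp only [Nat.add_mul_mod_self_left] at this
      rwa [Nat.mod_eq_of_lt ha, Nat.mod_eq_of_lt hb] at this
    have h3 : bit z = bit w := by
      rw [h2] at h1
      have := Nat.add_left_cancel h1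
      exact Nat.eq_of_mul_eq_mul_left (by positivity) this
    have h4 : (a : P12) = b := ((tab_rep _).eq_iff (tab_rep _)).2 h2
    exact Prod.ext (Subtype.ext h4) (bit_inj _ _ h3)
  mul := by
    rintro ⟨a, z⟩ ⟨b, w⟩
    rw [code_mk, code_mk, Prod.mk_mul_mk, code_mk, mulN_rep (tab_rep (a : P12)) (tab_rep (b : P12)), bit_mul,
      tab_mul]
    rfl
  one := by
    show tab ((1 : K) : P12) + 16 ^ 12 * bit 1 = idN
    have : tab (1 : P12) = oneT := ((tab_rep 1).eq_iff Rep.one).1 rfl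
    rw [show ((1 : K) : P12) = 1 from rfl, this]
    rfl

theorem cd_eq {K : Subgroup P12} {x : P12} (hx : x ∈ K) {s : ℕ} (h : Rep x s) (z : Multiplicative (ZMod 2)) :
    (mod K).cd (⟨x, hx⟩, z) = s + 16 ^ 12 * bit z := by
  show tab x + 16 ^ 12 * bit z = _
  rw [((tab_rep x).eq_iff h).1 rfl]

end Cfsg.Agent.CoThreeStd.DC.Model
end

-- part: CoThreeStd/DC/Psi
section
/-!
# The homomorphism from `K₁₂ × 2` and the letters `t, x, s₁, …, s₄, e`
-/

set_option autoImplicit false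

namespace Cfsg.Agent.CoThreeStd.DC.Psi

open Cfsg.Agent.CoThreeStd.DC.Eng Cfsg.Agent.CoThreeStd.DC.Model Cfsg.Agent.CoThreeStd.M12
  Cfsg.Agent.CoThreeStd.Bound

theorem bit_add : ∀ z w : Multiplicative (ZMod 2), bit (z * w) = (bit z + bit w) % 2 := by decide
theorem bit_one : bit 1 = 0 := rfl

/-- the element of order two -/
def tau : Multiplicative (ZMod 2) := Multiplicative.ofAdd 1
theorem bit_tau : bit tau = 1 := rfl
theorem tau_sq : tau * tau = 1 := by decide
theorem one_or_tau : ∀ z : Multiplicative (ZMod 2), z = 1 ∨ z = tau := by decide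

section psi

variable {H : Type*} [Group H] {K : Subgroup P12}

/-- the homomorphism -/
def psi (φ : K →* H) (t : H) (ht : t * t = 1) (hc : ∀ m, t * φ m = φ m * t) : CC K →* H where
  toFun c := φ c.1 * t ^ bit c.2
  map_one' := by
    show φ 1 * t ^ bit 1 = 1
    rw [map_one, bit_one, pow_zero, one_mul]
  map_mul' := by
    rintro ⟨a, z⟩ ⟨b, w⟩
    show φ (a * b) * t ^ bit (z * w) = φ a * t ^ bit z * (φ b * t ^ bit w)
    have h1 : t ^ bit (z * w) = t ^ bit z * t ^ bit w := by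
      rw [bit_add, ← pow_add]
      have : t ^ 2 = 1 := by rw [pow_two, ht]
      conv_rhs => rw [← Nat.mod_add_div (bit z + bit w) 2, pow_add, pow_mul, this, one_pow, mul_one]
    have h2 : t ^ bit z * φ b = φ b * t ^ bit z := by
      have : Commute t (φ b) := hc b
      exact (this.pow_left _).eq
    rw [h1, map_mul]
    calc φ a * φ b * (t ^ bit z * t ^ bit w) = φ a * (φ b * t ^ bit z) * t ^ bit w := by group
      _ = _ := by rw [← h2]; group

variable (φ : K →* H) (t : H) (ht : t * t = 1) (hc : ∀ m, t * φ m = φ m * t)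

theorem psi_one (m : K) : psi φ t ht hc (m, 1) = φ m := by
  show φ m * t ^ bit 1 = φ m
  rw [bit_one, pow_zero, mul_one]

theorem psi_tau : psi φ t ht hc (1, tau) = t := by
  show φ 1 * t ^ bit tau = t
  rw [bit_tau, map_one, one_mul, pow_one]

theorem psi_mk (m : K) (z : Multiplicative (ZMod 2)) : psi φ t ht hc (m, z) = φ m * t ^ bit z := rfl

end psi

/-- the group `K₁₂ × 2` -/
abbrev C : Type := CC K12

/-- the coding of `K₁₂ × 2` -/
def md : Sound.Mod C := mod K12

/-- the letters `t, x, s₁, …, s₄, e` -/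
def ga (q : ℕ) : C := if h : 1 ≤ q ∧ q ≤ 6 then (kl ⟨q - 1, by omega⟩, 1) else (1, tau)

/-- their codes -/
def gaN (q : ℕ) : ℕ := if h : 1 ≤ q ∧ q ≤ 6 then kt ⟨q - 1, by omega⟩ else 0x1ba9876543210

theorem cd_ga (q : ℕ) : md.cd (ga q) = gaN q := by
  unfold ga gaN
  split_ifs with h
  · have := cd_eq (K := K12) (kl ⟨q - 1, by omega⟩).2 (k_rep ⟨q - 1, by omega⟩) 1
    rw [bit_one, Nat.mul_zero, Nat.add_zero] at this
    exact this
  · have := cd_eq (K := K12) (one_mem _) Rep.one tau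
    rw [bit_tau] at this
    exact this.trans (by norm_num [oneT])

theorem ga_zero : ga 0 = (1, tau) := rfl
theorem ga_succ (i : Fin 6) : ga (i + 1) = (kl i, 1) := by
  unfold ga
  rw [dif_pos ⟨by omega, by omega⟩]
  rfl

theorem card_C : Nat.card C = 190080 := by
  rw [Nat.card_prod, card_K12, Nat.card_eq_fintype_card]
  rfl

instance : Finite C := by
  have : Finite K12 := inferInstance
  infer_instance

theorem ga_sq (q : ℕ) : ga q * ga q = 1 := by
  unfold ga
  split_ifs with h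
  · have : kl ⟨q - 1, by omega⟩ * kl ⟨q - 1, by omega⟩ = 1 := Subtype.ext (k_sq _)
    exact Prod.ext this rfl
  · exact Prod.ext (one_mul 1) tau_sq

/-- the letters generate -/
theorem closure_ga : Subgroup.closure (ga '' {q | q < 7}) = ⊤ := by
  rw [eq_top_iff]
  rintro ⟨m, z⟩ _
  have h1 : ((m, 1) : C) ∈ Subgroup.closure (ga '' {q | q < 7}) := by
    have hm : m ∈ Subgroup.closure (Set.range kl) := by rw [closure_kl]; trivial
    have h2 : (MonoidHom.inl K12 (Multiplicative (ZMod 2))) m ∈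
        (Subgroup.closure (Set.range kl)).map (MonoidHom.inl K12 (Multiplicative (ZMod 2))) := ⟨m, hm, rfl⟩
    rw [MonoidHom.map_closure] at h2
    refine Subgroup.closure_mono ?_ h2
    rintro _ ⟨_, ⟨i, rfl⟩, rfl⟩
    refine ⟨i + 1, ?_, ga_succ i⟩
    show (i : ℕ) + 1 < 7
    omega
  have h3 : ((1, z) : C) ∈ Subgroup.closure (ga '' {q | q < 7}) := by
    rcases one_or_tau z with rfl | rfl
    · exact one_mem _
    · exact Subgroup.subset_closure ⟨0, by show 0 < 7; norm_num, ga_zero⟩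
  have := mul_mem h1 h3
  rwa [Prod.mk_mul_mk, mul_one, one_mul] at this

end Cfsg.Agent.CoThreeStd.DC.Psi
end

-- part: CoThreeStd/Bound/RelF
section
/-!
# S1750 (N3): the final relator list

`RF` = relators of `M₁₂` (helper928), `t` central, the relators of `g = d` with `B`, and `R1`, `R3`, `R4`, and the facts
in a group `K` whose elements `h : Fin 8 → K` satisfy the relators.
-/

set_option autoImplicit false

namespace Cfsg.Agent.CoThreeStd.Bound.RelF

open Cfsg.Agent.CoThreeStd.GlueF Cfsg.Agent.CoThreeStd.Model Cfsg.Agent.CoThreeStd.Bound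

/-- The final relator list, letters `t x s₁ s₂ s₃ s₄ e d = 0 … 7`. -/
def RF : List (List (Fin 8)) :=
  RM8 ++ [[0, 0], [0, 1, 0, 1], [0, 2, 0, 2], [0, 3, 0, 3], [0, 4, 0, 4], [0, 5, 0, 5], [0, 6, 0, 6],
    [7, 7, 7], [7, 7, 0, 7, 1], [7, 7, 1, 7, 1, 0], [7, 7, 0, 2, 7, 2, 0], [7, 7, 0, 3, 7, 3, 0],
    [7, 7, 0, 4, 7, 4, 0], [7, 7, 0, 5, 7, 5, 0], R1, R3, R4]

theorem RF_okF : RF.all okF = true := by decide +kernel

theorem RF_id : RF.all idCheck = true := by decide +kernel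

variable {K : Type*} [Group K] {h : Fin 8 → K}

/-- The relators hold. -/
def Rels (h : Fin 8 → K) : Prop := ∀ r ∈ RF, (r.map h).prod = 1

/-- The element `ρ`. -/
def rho (h : Fin 8 → K) : K := (rhoS.map h).prod

namespace Rels

theorem of_mem (hR : Rels h) (r : List (Fin 8)) (hr : RF.contains r = true) : (r.map h).prod = 1 :=
  hR r (by simpa using hr)

theorem tt (hR : Rels h) : h 0 * h 0 = 1 := by
  have := hR.of_mem [0, 0] (by decide +kernel)
  simpa using this

theorem sq (hR : Rels h) (k : Fin 6) : h ⟨k.val + 1, by omega⟩ * h ⟨k.val + 1, by omega⟩ = 1 := by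
  have key : ∀ k : Fin 6, RF.contains [⟨k.val + 1, by omega⟩, ⟨k.val + 1, by omega⟩] = true := by decide +kernel
  have := hR.of_mem _ (key k)
  simpa using this

theorem comm (hR : Rels h) (k : Fin 6) :
    h 0 * h ⟨k.val + 1, by omega⟩ = h ⟨k.val + 1, by omega⟩ * h 0 := by
  have key : ∀ k : Fin 6, RF.contains [0, ⟨k.val + 1, by omega⟩, 0, ⟨k.val + 1, by omega⟩] = true := by
    decide +kernel
  have h1 := hR.of_mem _ (key k)
  have h2 : (h 0 * h ⟨k.val + 1, by omega⟩) * (h 0 * h ⟨k.val + 1, by omega⟩) = 1 := by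
    simpa [mul_assoc] using h1
  rw [eq_inv_of_mul_eq_one_left h2, mul_inv_rev, ← eq_inv_of_mul_eq_one_left hR.tt,
    ← eq_inv_of_mul_eq_one_left (hR.sq k)]

theorem ggg (hR : Rels h) : h 7 ^ 3 = 1 := by
  have := hR.of_mem [7, 7, 7] (by decide +kernel)
  simpa [pow_succ, mul_assoc] using this

/-- `g⁻¹ a g = b` from the relator `g g a g b⁻¹`. -/
theorem conj_of (hR : Rels h) {a b b' : K} (hb : b * b' = 1) (h1 : h 7 * (h 7 * (a * (h 7 * b'))) = 1) :
    a * h 7 = h 7 * b := by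
  have h3 : h 7 * (h 7 * h 7) = 1 := by simpa [pow_succ, mul_assoc] using hR.ggg
  calc a * h 7 = (h 7 * (h 7 * h 7)) * (a * h 7) * (b' * b) := by
        rw [h3, one_mul, mul_eq_one_comm.1 hb, mul_one]
    _ = h 7 * (h 7 * (h 7 * (a * (h 7 * b')))) * b := by simp only [mul_assoc]
    _ = h 7 * b := by rw [h1, mul_one]

theorem tg (hR : Rels h) : h 0 * h 7 = h 7 * h 1 :=
  hR.conj_of (hR.sq 0) (by simpa using hR.of_mem [7, 7, 0, 7, 1] (by decide +kernel))

theorem yg (hR : Rels h) : h 1 * h 7 = h 7 * (h 0 * h 1) := by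
  refine hR.conj_of (b' := h 1 * h 0) ?_ (by simpa using hR.of_mem [7, 7, 1, 7, 1, 0] (by decide +kernel))
  calc h 0 * h 1 * (h 1 * h 0) = h 0 * (h 1 * h 1) * h 0 := by simp only [mul_assoc]
    _ = 1 := by rw [show h 1 * h 1 = 1 from hR.sq 0, mul_one, hR.tt]

theorem tsg (hR : Rels h) (k : Fin 4) :
    (h 0 * h ⟨k.val + 2, by omega⟩) * h 7 = h 7 * (h 0 * h ⟨k.val + 2, by omega⟩) := by
  have key : ∀ k : Fin 4, RF.contains [7, 7, 0, ⟨k.val + 2, by omega⟩, 7, ⟨k.val + 2, by omega⟩, 0] = true := by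
    decide +kernel
  have h1 := hR.of_mem _ (key k)
  have h4 : h ⟨k.val + 2, by omega⟩ * h ⟨k.val + 2, by omega⟩ = 1 := hR.sq ⟨k.val + 1, by omega⟩
  refine hR.conj_of (b' := h ⟨k.val + 2, by omega⟩ * h 0) ?_ (by simpa [mul_assoc] using h1)
  generalize h ⟨k.val + 2, by omega⟩ = a at h4
  calc h 0 * a * (a * h 0) = h 0 * (a * a) * h 0 := by simp only [mul_assoc]
    _ = 1 := by rw [h4, mul_one, hR.tt]

theorem r1 (hR : Rels h) : (h 6 * h 5 * h 7) ^ 3 = 1 := by
  have := hR.of_mem R1 (by decide +kernel)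
  simpa [R1, pow_succ, mul_assoc] using this

/-- `(a b)ⁿ = 1 → (b a)ⁿ = 1` -/
theorem pow_swap {a b : K} {n : ℕ} (h1 : (a * b) ^ n = 1) : (b * a) ^ n = 1 := by
  have : b * a = b * (a * b) * b⁻¹ := by group
  rw [this, conj_pow, h1, mul_one, mul_inv_cancel]

theorem r3 (hR : Rels h) : (rho h * h 7) ^ 3 = 1 := by
  refine pow_swap ?_
  have := hR.of_mem R3 (by decide +kernel)
  rwa [R3_prod] at this

theorem rho_rev (hR : Rels h) : (rhoS.reverse.map h).prod = (rho h)⁻¹ := by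
  unfold rho
  have key : ∀ l : List (Fin 8), (∀ k ∈ l, h k * h k = 1) → (l.reverse.map h).prod = ((l.map h).prod)⁻¹ := by
    intro l
    induction l with
    | nil => intro _; simp
    | cons k l ih =>
      intro hk
      have e1 : ((k :: l).map h).prod = h k * (l.map h).prod := by rw [List.map_cons, List.prod_cons]
      have e2 : (([k] : List (Fin 8)).map h).prod = h k := by simp
      rw [List.reverse_cons, List.map_append, List.prod_append, ih fun j hj => hk j (List.mem_cons_of_mem _ hj),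
        e1, e2, mul_inv_rev]
      congr 1
      exact eq_inv_of_mul_eq_one_left (hk k List.mem_cons_self)
  refine key _ fun k hk => ?_
  have h6 : ∀ k ∈ rhoS, ∃ j : Fin 6, k = ⟨j.val + 1, by omega⟩ := by decide
  obtain ⟨j, rfl⟩ := h6 k hk
  exact hR.sq j

theorem r4 (hR : Rels h) : ((rho h)⁻¹ * h 7) ^ 7 = 1 := by
  refine pow_swap ?_
  have h1 := hR.of_mem R4 (by decide +kernel)
  have h4 : ((7 :: rhoS.reverse).map h).prod = h 7 * (rho h)⁻¹ := by
    rw [← hR.rho_rev]; simp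
  rw [← h1]
  unfold R4
  generalize (7 :: rhoS.reverse : List (Fin 8)) = w at h4
  simp only [List.map_append, List.prod_append, h4, pow_succ, pow_zero, one_mul, mul_assoc]

/-- The homomorphism from `M₁₂`. -/
theorem exists_phi (hR : Rels h) : ∃ φ : K12 →* K, ∀ i : Fin 6, φ (kl i) = h ⟨i + 1, by omega⟩ :=
  exists_hom8 h fun r hr => hR r (List.mem_append_left _ hr)

end Rels

end Cfsg.Agent.CoThreeStd.Bound.RelF
end

-- part: CoThreeStd/LamData
section
set_option autoImplicit false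
set_option maxRecDepth 100000

namespace Cfsg.Agent.CoThreeStd.LamData

open Cfsg.Agent.SporadicRecognition.CosetCert

noncomputable def tree : Tr := (.N 16 (.L 0xfffffff281159efffffff3957fff5ffffffffffffff2213fff273494638f3149cfffc7c4ffffffffffffff4ffffffffffffff1e0d259263ffff3ffffffffffc683fffd0d81d1484e4fffffff180bffffffffff9423fff5a2153db4b68542fffffff4263fff4fffcd55fffd1994160503fffc4420fffc4070d04f573b5bfff932cd155fffc3010f23fff3253fff961ffff6fffcbd32d4bfff0907ffffffc90f3fffffff2b441c10b185ca1c323854900ca50fffc8cf203bfff0507fff1ffffffffffffff1b304c9fffc0c10a30464bfffffff1628041fffc4892fffc388fffc28608140820610103f) (.N 32 (.L 0xfffd80dffffffffffffff5b4a0ab1ffffffffffd65199923697da7fff4fffe6dffffffff5543fff585da653fffd50ffffffffffffffffffd7a16fffffff513bfff6d9bffffffffff5fffffff4e2bffffffffff5373fff5a14528a506ffff7aa62d188a93516fffffff81ad2184527ffffffffff3fffffff7fa9009476510cfffffff4fffdde974a0fd63c23fff577bfff3fffdc276c98e883e5ffff9e5bfff4fffffff3625a25fffcdcb3840cc80fffd9a4fffcc47ffffffffffffff4fffffff2e19923929fffffffffff5fffcb06304d8a2fffd761fffffff6fffca85fffe6245a7e29afffd31a6)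 (.L 0xfffe019fffe128ffffffffffe0e06fffdf98ffffffffffffff896bfff6a07de68765dedafffe31f7c7ffff59d89cd778a7fff85afffffffffff6fffdca66f5a453ffffffffffffff5fffdad6719db9cffffffffffffff69c5ffff878bfff6757ffffffda9e3fffe7e3655269f9747ffffffffff5ffffffffffe567634fffffffffff3fffe1a5fffffff614bfff75a3fff3fffffffffffffffffd712fffd7dd2)))

noncomputable def wtree : WT := (.N 15 (.N 7 (.N 3 (.N 1 (.L 3 [4,4]) (.N 2 (.L 5 [6,6]) (.L 2 [0,2,0]))) (.N 5 (.N 4 (.L 2 [4,2,3]) (.L 1 [4,0,3])) (.N 6 (.L 0 [1,4,1,3]) (.L 0 [3,1,4])))) (.N 11 (.N 9 (.N 8 (.L 1 [3,0,1,4]) (.L 6 [2,0,6,0])) (.N 10 (.L 2 [5,0,6]) (.L 1 [5,0,2,1,6]))) (.N 13 (.N 12 (.L 2 [3,2,4]) (.L 0 [6,2,5])) (.N 14 (.L 1 [5,1,2,0,6]) (.L 0 [6,0,5,2]))))) (.N 22 (.N 18 (.N 16 (.L 6 [1,2,0,6,1]) (.N 17 (.L 3 [5,4,1,6,3,5]) (.L 1 [3,6,3,6,4,5]))) (.N 20 (.N 19 (.L 3 [5,1,3,6,3,6]) (.L 4 [0,1,4,1])) (.N 21 (.L 6 [1,3,6,3,6,4]) (.L 2 [0,6,1,5,1])))) (.N 26 (.N 24 (.N 23 (.L 0 [5,0,2,6]) (.L 7 [1,0,1,0]))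 (.N 25 (.L 4 [6,4,5,1,3,6]) (.L 4 [3,3]))) (.N 28 (.N 27 (.L 7 [0,6,2,5]) (.L 1 [3,1,0,4])) (.N 29 (.L 6 [4,1,6,3,5,4]) (.L 7 [3,6,4,5,1,3,6]))))))

noncomputable def stree : ST := (.L 7 [] [])

noncomputable def C : Cert where
  data := tree
  lm := 15
  rb := 116
  fb := 14
  mask := 16383
  B := 64
  k := 7
  N := 43
  inv := fun x => bif Nat.beq x 0 then 0 else bif Nat.beq x 1 then 1 else bif Nat.beq x 2 then 2 else bif Nat.beq x 3 then 4 else bif Nat.beq x 4 then 3 else bif Nat.beq x 5 then 6 else bif Nat.beq x 6 then 5 else x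
  words := wtree
  subs := stree

/-- letters: 0 = x, 1 = s, 2 = t, 3 = m, 4 = M, 5 = g, 6 = G -/
def rels : List (List Nat) := [[3,3,3], [5,5,5], [0,1,0,1], [2,0,2,0], [2,1,2,1], [2,4,2,3], [4,0,3,1], [6,2,5,0], [4,1,3,1,0], [6,0,5,0,2], [6,1,5,0,2,1], [6,3,5,4,5,4,1]]

def subw : List (List Nat) := []

/-- targets:  t -/
def targets : List (List Nat) := [[2]]

end Cfsg.Agent.CoThreeStd.LamData
end

-- part: CoThreeStd/LamChk0
section
set_option autoImplicit false
set_option maxRecDepth 100000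

namespace Cfsg.Agent.CoThreeStd.LamChk0

open Cfsg.Agent.SporadicRecognition.CosetCert Cfsg.Agent.Lib.CosetPartial Cfsg.Agent.CoThreeStd.LamData

theorem c0 : PartP C 0 43 := runP_sound C (by decide +kernel : runP C 9 511 0x1004cc0000000080200000000002000080202000cc86000084c000200000000200e0c0000000000213010000000000000400008000002e180405030000000000064c02000000286000000401130000000000000400027980000000000586000000406020100286000000400023180400000000000e30000401030000000000080000006980002130048c05130100004020080000000000802030100000020100802003980004020080c01b30000004020024d46010100002000000000000080804000000002130100004000000400020154c00c300004040000008000000000020001008040000800000000000000000acce60000000020019808a6000080000000100004020080000430020c00020100800010100404020034c0401098000400518000402000040000318000401018cc8763010000402000040000000000423000040400000080200010080002010080402 20 1048575 0x1d6916570000000000001a3000000000000000000000000000000000000000000000000007a8470000000000000000000000000000000000000000000000000000000001760000000000000004196700000000000000000000000002cd47000001094700000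 0 43 = true)

theorem all : PartP C 0 43 := c0

end Cfsg.Agent.CoThreeStd.LamChk0
end

-- part: CoThreeStd/Lam
section
set_option autoImplicit false
set_option maxRecDepth 100000

namespace Cfsg.Agent.CoThreeStd.Lam

open Cfsg.Agent.SporadicRecognition.CosetCert Cfsg.Agent.Lib.CosetPartial Cfsg.Agent.CoThreeStd.LamData

theorem part : PartP C 0 C.N := Cfsg.Agent.CoThreeStd.LamChk0.all

/-- every target word lies in `H` as soon as the relators hold and the subgroup words lie in `H` -/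
theorem mem {G : Type*} [Group G] (H : Subgroup G) (g : Nat → G)
    (hinv : ∀ x, x < 7 → g x * g (C.inv x) = 1)
    (hrel : ∀ r ∈ rels, ev g r = 1) (hsub : ∀ s ∈ subw, ev g s ∈ H) :
    ∀ w ∈ targets, ev g w ∈ H :=
  mem_of_checks C H g rels subw targets (by decide +kernel) hinv hrel hsub part (by decide +kernel)

theorem eq_one {G : Type*} [Group G] (g : Nat → G)
    (hinv : ∀ x, x < 7 → g x * g (C.inv x) = 1)
    (hrel : ∀ r ∈ rels, ev g r = 1) : ∀ w ∈ targets, ev g w = 1 :=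
  fun w hw => Subgroup.mem_bot.mp (mem ⊥ g hinv hrel (by simp [subw]) w hw)

end Cfsg.Agent.CoThreeStd.Lam
end

-- part: CoThreeStd/SevData
section
set_option autoImplicit false
set_option maxRecDepth 100000

namespace Cfsg.Agent.CoThreeStd.SevData

open Cfsg.Agent.SporadicRecognition.CosetCert

noncomputable def tree : Tr := (.N 16 (.L 0xfff23fffcf1ffe7fffffcb0fff1383ffc0dfff1bfff9ffffff0bae93cc0ffee2fffbedb647fffffbacffed283ffae4ffedafff9fff50c997ffa080ffe71fffa29ffe7fffff9e8ffe5883ff925553ffd609fff492518727ff1ffe28d857ff20a7ffd950c40c469c7ff821aa461c419fffa6410bffffff) (.L 0x3ffd62a03633ff95e1ffffffffcd00))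

noncomputable def wtree : WT := (.N 4 (.N 2 (.N 1 (.L 0 [1,1]) (.L 3 [1,3,0,2,1])) (.N 3 (.L 3 [2,2]) (.L 0 [2,0,3,0,3]))) (.N 6 (.N 5 (.L 2 [3,3]) (.L 1 [3,0,3,1,2])) (.N 7 (.L 1 [0,0]) (.L 4 [0,3,0,3,1,2]))))

noncomputable def stree : ST := (.L 4 [] [])

noncomputable def C : Cert where
  data := tree
  lm := 15
  rb := 59
  fb := 11
  mask := 2047
  B := 32
  k := 4
  N := 18
  inv := fun x => bif Nat.beq x 0 then 1 else bif Nat.beq x 1 then 0 else bif Nat.beq x 2 then 3 else bif Nat.beq x 3 then 2 else x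
  words := wtree
  subs := stree

/-- letters: 0 = m, 1 = M, 2 = g, 3 = G -/
def rels : List (List Nat) := [[0,0,0], [2,2,2], [3,0,2,1,2,1]]

def subw : List (List Nat) := []

/-- targets:  gmgmgm;  gMgMgMgMgMgMgM -/
def targets : List (List Nat) := [[2,0,2,0,2,0], [2,1,2,1,2,1,2,1,2,1,2,1,2,1]]

end Cfsg.Agent.CoThreeStd.SevData
end

-- part: CoThreeStd/SevChk0
section
set_option autoImplicit false
set_option maxRecDepth 100000

namespace Cfsg.Agent.CoThreeStd.SevChk0

open Cfsg.Agent.SporadicRecognition.CosetCert Cfsg.Agent.Lib.CosetPartial Cfsg.Agent.CoThreeStd.SevData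

theorem c0 : PartP C 0 18 := runP_sound C (by decide +kernel : runP C 7 127 0x4069800000001020010000080010200100000b1810200102000800102001004608001020010000080010208033260808002080024608083030c1020408000 7 127 0x730000000000000000000000000000 0 18 = true)

theorem all : PartP C 0 18 := c0

end Cfsg.Agent.CoThreeStd.SevChk0
end

-- part: CoThreeStd/Sev
section
set_option autoImplicit false
set_option maxRecDepth 100000

namespace Cfsg.Agent.CoThreeStd.Sev

open Cfsg.Agent.SporadicRecognition.CosetCert Cfsg.Agent.Lib.CosetPartial Cfsg.Agent.CoThreeStd.SevData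

theorem part : PartP C 0 C.N := Cfsg.Agent.CoThreeStd.SevChk0.all

/-- every target word lies in `H` as soon as the relators hold and the subgroup words lie in `H` -/
theorem mem {G : Type*} [Group G] (H : Subgroup G) (g : Nat → G)
    (hinv : ∀ x, x < 4 → g x * g (C.inv x) = 1)
    (hrel : ∀ r ∈ rels, ev g r = 1) (hsub : ∀ s ∈ subw, ev g s ∈ H) :
    ∀ w ∈ targets, ev g w ∈ H :=
  mem_of_checks C H g rels subw targets (by decide +kernel) hinv hrel hsub part (by decide +kernel)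

theorem eq_one {G : Type*} [Group G] (g : Nat → G)
    (hinv : ∀ x, x < 4 → g x * g (C.inv x) = 1)
    (hrel : ∀ r ∈ rels, ev g r = 1) : ∀ w ∈ targets, ev g w = 1 :=
  fun w hw => Subgroup.mem_bot.mp (mem ⊥ g hinv hrel (by simp [subw]) w hw)

end Cfsg.Agent.CoThreeStd.Sev
end

-- part: CoThreeStd/RStar
section
/-!
# S1750, part [A]: the relation of the normaliser of `⟨t, y, s⟩` (helper178)

`rho` is an element of order 3 of `M₁₂`: `y ↦ s ↦ ys`. The exactness of `C_G(t)` gives `v := (ρ g ρ⁻¹)^g ∈ M₁₂` and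
`v = ρ`.  This is the relation `(R*)` (`star`), which implies `(gρ)³ = 1` and `(gρ⁻¹)⁷ = 1`.
-/

set_option autoImplicit false

namespace Cfsg.Agent.CoThreeStd.RStar

open Cfsg Cfsg.Agent.CoThreeStd.RelMain Cfsg.Agent.CoThreeStd.MTwelve Cfsg.Agent.CoThreeStd.RelB
  Cfsg.Agent.CoThreeStd.DeltaData Cfsg.Agent.SporadicRecognition.CosetCert

/-- the words of the elements of `C(y)` -/
def cy : List (List ℕ) :=
  [[], [1,4], [2,1,3,2,1,4,3,2,1], [1,2,1,3,2,1,4,3,2], [1,2,1,3,4], [2,3,2,4,3,2], [1,2,3], [3,2,4,3,2,1],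
  [2,1,3,2], [1,3,4,3,2], [1,4,3,2,1], [2,1,3,2,1,4], [2,1,3,4,3], [2,4,3], [1,2,3,2,4,3], [1,3,2,1,4,3],
  [1,2,1,4,3,2], [3,2,4], [1,2,1,3,4,3,2,1], [3,2,1], [0,1,2,1,3,2,1,4,3,2], [0], [0,2,1,3,2,1,4,3,2,1], [0,1,4],
  [0,2,1,3,2], [0,2,1,3,2,1,4], [0,1,4,3,2,1], [0,1,3,4,3,2], [0,1,2,1,4,3,2], [0,3,2,1], [0,3,2,4],
  [0,1,2,1,3,4,3,2,1], [0,2,1,3,4,3], [0,1,3,2,1,4,3], [0,2,4,3], [0,1,2,3,2,4,3], [0,1,2,1,3,4], [0,2,3,2,4,3,2],
  [0,3,2,4,3,2,1], [0,1,2,3], [1,2,1,3,2,1,4,3,2,1], [2,1,3,2,1,4,3,2], [1], [4], [2,1,4,3,2], [2,1,3,4,3,2,1],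
  [1,3,2,1], [1,3,2,4], [1,2,1,3,4,3], [3,2,1,4,3], [1,2,4,3], [2,3,2,4,3], [1,2,1,3,2], [4,3,2,1], [1,2,1,3,2,1,4],
  [3,4,3,2], [2,1,3,4], [1,3,2,4,3,2,1], [1,2,3,2,4,3,2], [2,3], [0,4], [0,1,2,1,3,2,1,4,3,2,1], [0,1],
  [0,2,1,3,2,1,4,3,2], [0,1,2,1,3,4,3], [0,2,3,2,4,3], [0,1,2,4,3], [0,3,2,1,4,3], [0,2,1,3,4], [0,2,3],
  [0,1,3,2,4,3,2,1], [0,1,2,3,2,4,3,2], [0,1,2,1,3,2], [0,3,4,3,2], [0,4,3,2,1], [0,1,2,1,3,2,1,4], [0,2,1,4,3,2],
  [0,2,1,3,4,3,2,1], [0,1,3,2,4], [0,1,3,2,1], [0,1,3,4,3,2,1], [0,1,4,3,2], [0,2,1,3,2,1], [0,2,1,3,2,4],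
  [0,3,2,4,3], [0,1,2,3,4,3], [0,2,3,2,1,4,3], [0,1,2,1,4,3], [0,2,3,4,3,2], [0,2,4,3,2,1], [0,1,2,3,2],
  [0,1,2,3,2,1,4], [0,3], [0,2,1,3,2,4,3,2,1], [0,1,3,4], [0,1,2,1,3,2,4,3,2], [0,2,4], [0,1,2,3,2,1,4,3,2,1],
  [0,1,3,2,1,4,3,2], [0,2,1], [3,2,4,3,2], [1,2,3,4], [2,3,2,4,3,2,1], [1,2,1,3], [1,3,2,1,4], [1,3,2],
  [2,1,4,3,2,1], [2,1,3,4,3,2], [1,2,3,2,1,4,3,2], [2], [1,3,2,1,4,3,2,1], [2,1,4], [2,3,2,1], [2,3,2,4],
  [1,2,4,3,2], [1,2,3,4,3,2,1], [2,1,3,2,1,4,3], [4,3], [1,3,4,3], [1,2,1,3,2,4,3], [1,3,4,3,2,1], [2,1,3,2,4],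
  [2,1,3,2,1], [1,4,3,2], [3,2,4,3], [1,2,1,4,3], [2,3,2,1,4,3], [1,2,3,4,3], [2,4], [1,2,3,2,1,4,3,2,1], [2,1],
  [1,3,2,1,4,3,2], [3], [2,1,3,2,4,3,2,1], [1,2,1,3,2,4,3,2], [1,3,4], [2,3,4,3,2], [2,4,3,2,1], [1,2,3,2,1,4],
  [1,2,3,2], [1,3,2,4,3], [1,2,3,2,1,4,3], [2,3,4,3], [2,1,4,3], [3,4,3,2,1], [1,2,1,3,2,1], [4,3,2], [1,2,1,3,2,4],
  [1,2,4,3,2,1], [1,2,3,4,3,2], [2,3,2,1,4], [2,3,2], [1,2,1,3,2,4,3,2,1], [1,3], [3,4], [2,1,3,2,4,3,2],
  [2,3,2,1,4,3,2,1], [1,2,4], [3,2,1,4,3,2], [1,2,1], [0,3,2,1,4], [0,1,2,1,4,3,2,1], [0,1,2,1,3,4,3,2], [0,3,2],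
  [0,1,3,2,4,3,2], [0,1,2,3,2,4,3,2,1], [0,2,1,3], [0,2,3,4], [0,1,2,3,2,4], [0,1,2,3,2,1], [0,2,3,4,3,2,1],
  [0,2,4,3,2], [0,1,2], [0,2,3,2,1,4,3,2], [0,3,2,1,4,3,2,1], [0,1,2,1,4], [0,1,4,3], [0,1,2,1,3,2,1,4,3],
  [0,2,1,3,2,4,3], [0,3,4,3], [0,1,3,2,4,3], [0,2,1,4,3], [0,1,2,3,2,1,4,3], [0,2,3,4,3], [0,3,4,3,2,1],
  [0,1,2,1,3,2,4], [0,1,2,1,3,2,1], [0,4,3,2], [0,1,2,1,3,2,4,3,2,1], [0,1,3], [0,2,1,3,2,4,3,2], [0,3,4],
  [0,2,3,2,1,4,3,2,1], [0,1,2,4], [0,1,2,1], [0,3,2,1,4,3,2], [0,1,2,4,3,2,1], [0,1,2,3,4,3,2], [0,2,3,2,1,4],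
  [0,2,3,2], [3,2,1,4], [1,2,1,3,4,3,2], [3,2], [1,2,1,4,3,2,1], [1,3,2,4,3,2], [2,1,3], [2,3,4], [1,2,3,2,4,3,2,1],
  [1,4,3], [1,2,1,3,2,1,4,3], [2,1,3,2,4,3], [3,4,3], [1,2,3,2,4], [1,2,3,2,1], [2,4,3,2], [2,3,4,3,2,1], [1,2],
  [2,3,2,1,4,3,2], [1,2,1,4], [3,2,1,4,3,2,1], [0,3,2,4,3,2], [0,1,2,3,4], [0,1,2,1,3], [0,2,3,2,4,3,2,1],
  [0,1,3,2,1,4], [0,1,3,2], [0,2,1,3,4,3,2], [0,2,1,4,3,2,1], [0,1,2,3,2,1,4,3,2], [0,2], [0,2,1,4],
  [0,1,3,2,1,4,3,2,1], [0,2,1,3,2,1,4,3], [0,4,3], [0,1,3,4,3], [0,1,2,1,3,2,4,3], [0,2,3,2,1], [0,2,3,2,4],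
  [0,1,2,4,3,2], [0,1,2,3,4,3,2,1]]

set_option maxRecDepth 100000 in
theorem cy_inc : incS 0 cy = true := by decide +kernel

theorem cy_len : cy.length = 240 := by decide +kernel

theorem cy_comm : cy.all (fun l => eqW (l ++ [0]) ([0] ++ l)) = true := by decide +kernel

theorem mem_cy (m : H) (hm : m * y = y * m) : ∃ l ∈ cy, wd l = m := by
  apply exhaust (Subgroup.centralizer {y} : Subgroup H) cy
  · intro l hl
    rw [Subgroup.mem_centralizer_singleton_iff, ← wd_y]
    have h2 := wd_eq (List.all_eq_true.mp cy_comm l hl)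
    rwa [wd_append, wd_append] at h2
  · exact cy_inc
  · rw [card_cent_y, cy_len]
  · rw [Subgroup.mem_centralizer_singleton_iff]
    exact hm

/-- the word of `ρ` -/
def rho : List (Fin 8) := [3, 2, 4, 6, 4, 3, 2, 6, 3, 6, 4, 3, 5, 6, 4]

/-- letters in `⟨t⟩ × M₁₂` -/
def no7 (w : List (Fin 8)) : Bool := w.all fun k => !(k == 7)

/-- conjugation by `g` -/
def ph (k : Fin 8) : List (Fin 8) := if k = 0 then [1] else if k = 1 then [0, 1] else [1, 0, k]

/-- conjugation by `g` on words -/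
def phi (w : List (Fin 8)) : List (Fin 8) := w.flatMap ph

/-- words in `C_C(x)` -/
def le5 (w : List (Fin 8)) : Bool := w.all fun k => Nat.ble k.val 5

/-- equality of words in `⟨t⟩ × M₁₂` -/
def okC (w w' : List (Fin 8)) : Bool := no7 w' && okR (w ++ w'.reverse)

variable {G : Type*} [Group G] {t g0 : G} {ι : H →* G} {h : Fin 8 → G}

/-- value of a word -/
def E (h : Fin 8 → G) (w : List (Fin 8)) : G := (w.map h).prod

theorem E_append (w w' : List (Fin 8)) : E h (w ++ w') = E h w * E h w' := by simp [E]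
theorem E_cons (k : Fin 8) (w : List (Fin 8)) : E h (k :: w) = h k * E h w := by simp [E]
theorem E_nil : E h [] = 1 := rfl

section

variable (ho : Out t ι g0 h)
include ho

theorem sq {k : Fin 8} (hk : k ≠ 7) : h k * h k = 1 := by
  have h1 : ∀ k : Fin 8, k ≠ 7 → okR [k, k] = true := by decide +kernel
  have := ho.rel _ (h1 k hk)
  simpa using this

theorem E_reverse {w : List (Fin 8)} (hw : no7 w = true) : E h w.reverse = (E h w)⁻¹ := by
  induction w with
  | nil => simp [E]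
  | cons k w ih =>
    unfold no7 at hw ih
    rw [List.all_cons, Bool.and_eq_true] at hw
    have hk : k ≠ 7 := by simpa using hw.1
    rw [List.reverse_cons, E_append, ih hw.2, E_cons k w, mul_inv_rev, E_cons, E_nil, mul_one,
      inv_eq_of_mul_eq_one_left (sq ho hk)]

theorem eqC {w w' : List (Fin 8)} (hc : okC w w' = true) : E h w = E h w' := by
  unfold okC at hc
  rw [Bool.and_eq_true] at hc
  have h1 : E h (w ++ w'.reverse) = 1 := ho.rel _ hc.2
  rw [E_append, E_reverse ho hc.1] at h1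
  exact mul_inv_eq_one.1 h1

theorem cube : h 7 * h 7 * h 7 = 1 := by
  have := ho.rel [7, 7, 7] (by decide +kernel)
  simp only [List.map_cons, List.map_nil, List.prod_cons, List.prod_nil, mul_one] at this
  rw [mul_assoc]; exact this

theorem h77 : h 7 * h 7 = (h 7)⁻¹ := by
  rw [eq_inv_iff_mul_eq_one]; exact cube ho

theorem c0 : C (h 7) (h 0) (h 1) := by
  have h1 := ho.rel [7, 7, 0, 7, 1] (by decide +kernel)
  simp only [List.map_cons, List.map_nil, List.prod_cons, List.prod_nil, mul_one] at h1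
  rw [← mul_assoc (h 7) (h 7), h77 ho] at h1
  apply C.of_eq
  have h2 : ((h 7)⁻¹ * h 0 * h 7) * h 1 = 1 := by rw [← h1]; group
  rw [eq_inv_of_mul_eq_one_left h2, inv_eq_of_mul_eq_one_left (sq ho (by decide))]

theorem c1 : C (h 7) (h 1) (h 0 * h 1) := by
  have h1 := ho.rel [7, 7, 1, 7, 1, 0] (by decide +kernel)
  simp only [List.map_cons, List.map_nil, List.prod_cons, List.prod_nil, mul_one] at h1
  rw [← mul_assoc (h 7) (h 7), h77 ho] at h1
  apply C.of_eq
  have h2 : ((h 7)⁻¹ * h 1 * h 7) * (h 1 * h 0) = 1 := by rw [← h1]; group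
  rw [eq_inv_of_mul_eq_one_left h2, mul_inv_rev, inv_eq_of_mul_eq_one_left (sq ho (k := 1) (by decide)),
    inv_eq_of_mul_eq_one_left (sq ho (k := 0) (by decide))]

theorem ck {k : Fin 8} (h2 : 2 ≤ k.val) (h5 : k.val ≤ 5) : C (h 7) (h k) (h 1 * (h 0 * h k)) := by
  have hR : ∀ k : Fin 8, 2 ≤ k.val → k.val ≤ 5 → okR [7, 7, 0, k, 7, k, 0] = true := by decide +kernel
  have h1 := ho.rel _ (hR k h2 h5)
  simp only [List.map_cons, List.map_nil, List.prod_cons, List.prod_nil, mul_one] at h1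
  rw [← mul_assoc (h 7) (h 7), h77 ho] at h1
  have hk7 : k ≠ 7 := by rintro rfl; exact absurd h5 (by decide)
  have h3 : C (h 7) (h 0 * h k) (h 0 * h k) := by
    apply C.of_eq
    have h4 : ((h 7)⁻¹ * (h 0 * h k) * h 7) * (h k * h 0) = 1 := by rw [← h1]; group
    rw [eq_inv_of_mul_eq_one_left h4, mul_inv_rev, inv_eq_of_mul_eq_one_left (sq ho hk7),
      inv_eq_of_mul_eq_one_left (sq ho (k := 0) (by decide))]
  have h4 := (c0 ho).mul h3
  rwa [← mul_assoc, sq ho (by decide), one_mul] at h4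

theorem conj7 {w : List (Fin 8)} (hw : le5 w = true) : C (h 7) (E h w) (E h (phi w)) := by
  induction w with
  | nil => show _ = _; simp [E, phi]
  | cons k w ih =>
    unfold le5 at hw ih
    rw [List.all_cons, Bool.and_eq_true] at hw
    have hk := Nat.le_of_ble_eq_true hw.1
    have h1 : C (h 7) (h k) (E h (ph k)) := by
      by_cases k0 : k = 0
      · subst k0
        have := c0 ho
        simpa [ph, E] using this
      by_cases k1 : k = 1
      · subst k1
        have := c1 ho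
        simpa [ph, E] using this
      · have h2 : 2 ≤ k.val := by
          have a0 : k.val ≠ 0 := fun h => k0 (Fin.ext h)
          have a1 : k.val ≠ 1 := fun h => k1 (Fin.ext h)
          omega
        have := ck ho h2 hk
        simpa [ph, k0, k1, E] using this
    have h2 := h1.mul (ih hw.2)
    rw [E_cons]
    have e : phi (k :: w) = ph k ++ phi w := rfl
    rw [e, E_append]
    exact h2

/-- `(ρ g ρ⁻¹)^g` -/
theorem pair {a1 b1 l2 A A' : List (Fin 8)} (p1 : le5 a1 = true) (p2 : le5 b1 = true) (p3 : le5 l2 = true)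
    (p4 : okC (a1 ++ rho) (rho ++ b1) = true) (p5 : okC (l2 ++ rho) (rho ++ phi b1) = true)
    (p6 : okC (phi a1) A = true) (p7 : okC (phi l2) A' = true) :
    C ((h 7)⁻¹ * (E h rho * h 7 * (E h rho)⁻¹) * h 7) (E h A) (E h A') := by
  have r1 : C (E h rho) (E h a1) (E h b1) := by
    show _ = _
    rw [← E_append, ← E_append]; exact eqC ho p4
  have r2 : C (E h rho) (E h l2) (E h (phi b1)) := by
    show _ = _
    rw [← E_append, ← E_append]; exact eqC ho p5
  have g1 : C (h 7) (E h a1) (E h A) := by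
    rw [← eqC ho p6]; exact conj7 ho p1
  have g2 : C (h 7) (E h l2) (E h A') := by
    rw [← eqC ho p7]; exact conj7 ho p3
  exact (g1.inv.comp ((r1.comp (conj7 ho p2)).comp r2.inv)).comp g2

end

/-- the word in `M₁₂` -/
def fl (s : ℕ → List ℕ) (w : List (Fin 8)) : List ℕ := (w.map Fin.val).flatMap s

/-- test of the elements of `C(y) ρ` -/
def testV (s : ℕ → List ℕ) (l : List ℕ) : Bool :=
  !(eqW (fl s [1, 5] ++ (l ++ fl s rho)) ((l ++ fl s rho) ++ fl s [1])) ||
  !(eqW (fl s [1, 2] ++ (l ++ fl s rho)) ((l ++ fl s rho) ++ fl s [1, 2, 5])) ||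
  !(eqW (fl s [1, 3] ++ (l ++ fl s rho)) ((l ++ fl s rho) ++ fl s [1, 3, 5])) ||
  !(eqW ((fl s [1, 2, 3, 2, 4, 3, 2, 5, 4, 3, 2] ++ (l ++ fl s rho)) ++
      ((fl s [1, 2, 3, 2, 4, 3, 2, 5, 4, 3, 2] ++ (l ++ fl s rho)) ++
      (fl s [1, 2, 3, 2, 4, 3, 2, 5, 4, 3, 2] ++ (l ++ fl s rho)))) (fl s [2, 5])) ||
  eqW l [] || eqW l (fl s [5])

set_option maxRecDepth 100000 in
theorem testV1 : cy.all (testV sub1) = true := by decide +kernel

set_option maxRecDepth 100000 in
theorem testV2 : cy.all (testV sub2) = true := by decide +kernel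

theorem fl_cons (s : ℕ → List ℕ) (k : Fin 8) (w : List (Fin 8)) : fl s (k :: w) = s k.val ++ fl s w := rfl

theorem fl_append (s : ℕ → List ℕ) (w w' : List (Fin 8)) : fl s (w ++ w') = fl s w ++ fl s w' := by
  simp [fl]

/-- words without `t` -/
theorem E_mid {s : ℕ → List ℕ} (hs : ∀ k : Fin 8, k ≠ 0 → k ≠ 7 → h k = ι (wd (s k.val))) {w : List (Fin 8)}
    (hw : midW w = true) : E h w = ι (wd (fl s w)) := by
  induction w with
  | nil => simp [E, fl, wd]
  | cons k w ih =>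
    unfold midW at hw ih
    rw [List.all_cons, Bool.and_eq_true] at hw
    have h1 := hw.1
    simp only [Bool.and_eq_true, Bool.not_eq_true', beq_eq_false_iff_ne, ne_eq] at h1
    rw [E_cons, ih hw.2, hs k h1.1 h1.2, fl_cons, wd_append, map_mul]

theorem main (c : Fusion.Ctx t ι) (ho : Out t ι g0 h) :
    (h 7)⁻¹ * (E h rho * h 7 * (E h rho)⁻¹) * h 7 = E h rho ∨
    (h 7)⁻¹ * (E h rho * h 7 * (E h rho)⁻¹) * h 7 = h 5 * E h rho := by
  obtain ⟨v, hv⟩ : ∃ v, v = (h 7)⁻¹ * (E h rho * h 7 * (E h rho)⁻¹) * h 7 := ⟨_, rfl⟩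
  have q0 := pair ho (a1 := [0, 1]) (b1 := [0, 5]) (l2 := [0, 1]) (A := [0]) (A' := [0]) (by decide) (by decide)
    (by decide) (by decide +kernel) (by decide +kernel) (by decide +kernel) (by decide +kernel)
  have q1 := pair ho (a1 := [5]) (b1 := [1, 5]) (l2 := [1]) (A := [0, 1, 5]) (A' := [0, 1]) (by decide) (by decide)
    (by decide) (by decide +kernel) (by decide +kernel) (by decide +kernel) (by decide +kernel)
  have q2 := pair ho (a1 := [2]) (b1 := [1, 2]) (l2 := [1, 2, 5]) (A := [0, 1, 2]) (A' := [0, 1, 2, 5]) (by decide)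
    (by decide) (by decide) (by decide +kernel) (by decide +kernel) (by decide +kernel) (by decide +kernel)
  have q3 := pair ho (a1 := [3]) (b1 := [1, 3]) (l2 := [1, 3, 5]) (A := [0, 1, 3]) (A' := [0, 1, 3, 5]) (by decide)
    (by decide) (by decide) (by decide +kernel) (by decide +kernel) (by decide +kernel) (by decide +kernel)
  have q4 := pair ho (a1 := [0]) (b1 := [0]) (l2 := [1, 5]) (A := [1]) (A' := [5]) (by decide)
    (by decide) (by decide) (by decide +kernel) (by decide +kernel) (by decide +kernel) (by decide +kernel)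
  rw [← hv] at q0 q1 q2 q3 q4 ⊢
  have h0 := ho.zero
  have qt : t * v = v * t := by
    have : E h [0] * v = v * E h [0] := q0
    simpa [E, h0] using this
  -- the cube
  have hv3 : v * v * v = 1 := by
    rw [hv]
    have h3 := cube ho
    calc _ = (h 7)⁻¹ * (E h rho * (h 7 * h 7 * h 7) * (E h rho)⁻¹) * h 7 := by group
      _ = 1 := by rw [h3]; group
  obtain ⟨n, hn⟩ : ∃ n, v = ι n := by
    obtain ⟨n, hn | hn⟩ := c.cent v qt.symm
    · exact ⟨n, hn⟩
    · exfalso
      apply c.nmem (n * n * n)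
      have h4 : v * v * v = t * ι (n * n * n) := by
        have hc : Commute t (ι n) := (c.comm n).symm
        rw [hn, map_mul, map_mul]
        calc t * ι n * (t * ι n) * (t * ι n) = t * (ι n * t) * ι n * t * ι n := by group
          _ = t * (t * ι n) * ι n * t * ι n := by rw [hc.eq]
          _ = (t * t) * ι n * (ι n * t) * ι n := by group
          _ = ι n * (t * ι n) * ι n := by rw [c.tt, hc.eq]; group
          _ = (ι n * t) * ι n * ι n := by group
          _ = (t * ι n) * ι n * ι n := by rw [hc.eq]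
          _ = _ := by group
      rw [hv3] at h4
      rw [eq_comm, mul_eq_one_iff_inv_eq, inv_eq_of_mul_eq_one_left c.tt] at h4
      exact h4.symm
  obtain ⟨s, hs, hk⟩ := ho.sub
  have mid : ∀ {w : List (Fin 8)}, midW w = true → E h w = ι (wd (fl s w)) := fun hw => E_mid hk hw
  -- relations in `M₁₂`
  have rel : ∀ {a b : List (Fin 8)}, midW a = true → midW b = true → C v (E h a) (E h b) →
      wd (fl s a) * n = n * wd (fl s b) := by
    intro a b ha hb hab
    have h1 : E h a * v = v * E h b := hab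
    rw [mid ha, mid hb, hn, ← map_mul, ← map_mul] at h1
    exact c.inj h1
  have relt : ∀ {a b : List (Fin 8)}, midW a = true → midW b = true → C v (E h (0 :: a)) (E h (0 :: b)) →
      wd (fl s a) * n = n * wd (fl s b) := by
    intro a b ha hb hab
    apply rel ha hb
    have h1 : E h (0 :: a) * v = v * E h (0 :: b) := hab
    rw [E_cons, E_cons, h0, ← mul_assoc v, ← qt, mul_assoc, mul_assoc] at h1
    exact mul_left_cancel h1
  have m1 := relt (a := [1, 5]) (b := [1]) (by decide) (by decide) q1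
  have m2 := relt (a := [1, 2]) (b := [1, 2, 5]) (by decide) (by decide) q2
  have m3 := relt (a := [1, 3]) (b := [1, 3, 5]) (by decide) (by decide) q3
  have m4 := rel (a := [1]) (b := [5]) (by decide) (by decide) q4
  -- the relation with `e`
  have m5 : wd (fl s [1, 2, 3, 2, 4, 3, 2, 5, 4, 3, 2]) * n * (wd (fl s [1, 2, 3, 2, 4, 3, 2, 5, 4, 3, 2]) * n) *
      (wd (fl s [1, 2, 3, 2, 4, 3, 2, 5, 4, 3, 2]) * n) = wd (fl s [2, 5]) := by
    have alt := Collapse.alt_of c ho
    have a1 : h 6 * h 7 * (h 6 * h 7) * (h 6 * h 7) = E h [0, 2] := by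
      simp only [List.map_cons, List.map_nil, List.prod_cons, List.prod_nil, mul_one] at alt
      have e : (h 6 * h 7 * (h 6 * h 7) * (h 6 * h 7)) * (h 2 * h 0) = 1 := by rw [← alt]; group
      rw [eq_inv_of_mul_eq_one_left e, mul_inv_rev, inv_eq_of_mul_eq_one_left (sq ho (k := 0) (by decide)),
        inv_eq_of_mul_eq_one_left (sq ho (k := 2) (by decide))]
      simp [E]
    -- conjugate by `ρ⁻¹`
    have e2 : C (E h rho) (E h [1, 2, 3, 2, 4, 3, 2, 5, 4, 3, 2]) (h 6) := by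
      have : okC ([1, 2, 3, 2, 4, 3, 2, 5, 4, 3, 2] ++ rho) (rho ++ [6]) = true := by decide +kernel
      have h5 := eqC ho this
      rw [E_append, E_append] at h5
      show _ = _
      rw [h5]; simp [E]
    have e3 : C (E h rho) (E h [0, 1, 2, 5]) (E h [0, 2]) := by
      have : okC ([0, 1, 2, 5] ++ rho) (rho ++ [0, 2]) = true := by decide +kernel
      have h5 := eqC ho this
      rw [E_append, E_append] at h5
      exact h5
    have e2' : E h [1, 2, 3, 2, 4, 3, 2, 5, 4, 3, 2] = E h rho * h 6 * (E h rho)⁻¹ := by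
      rw [eq_mul_inv_iff_mul_eq]; exact e2
    have e3' : E h [0, 1, 2, 5] = E h rho * E h [0, 2] * (E h rho)⁻¹ := by
      rw [eq_mul_inv_iff_mul_eq]; exact e3
    have g1 := (conj7 ho (w := [1, 2, 3, 2, 4, 3, 2, 5, 4, 3, 2]) (by decide)).eq
    have g2 := (conj7 ho (w := [0, 1, 2, 5]) (by decide)).eq
    have g1' : E h (phi [1, 2, 3, 2, 4, 3, 2, 5, 4, 3, 2]) = E h [0, 1, 2, 3, 2, 4, 3, 2, 5, 4, 3, 2] :=
      eqC ho (by decide +kernel)
    have g2' : E h (phi [0, 1, 2, 5]) = E h [0, 2, 5] := eqC ho (by decide +kernel)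
    rw [g1'] at g1
    rw [g2'] at g2
    have key : E h [0, 1, 2, 3, 2, 4, 3, 2, 5, 4, 3, 2] * v * (E h [0, 1, 2, 3, 2, 4, 3, 2, 5, 4, 3, 2] * v) *
        (E h [0, 1, 2, 3, 2, 4, 3, 2, 5, 4, 3, 2] * v) = E h [0, 2, 5] := by
      rw [← g2, e3', ← a1, ← g1, e2', hv]; group
    rw [E_cons, E_cons 0 [2, 5], h0, mid (w := [1, 2, 3, 2, 4, 3, 2, 5, 4, 3, 2]) (by decide),
      mid (w := [2, 5]) (by decide), hn] at key
    generalize wd (fl s [1, 2, 3, 2, 4, 3, 2, 5, 4, 3, 2]) = k at key ⊢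
    have h6 : t * ι k * ι n * (t * ι k * ι n) * (t * ι k * ι n) = t * ι (k * n * (k * n) * (k * n)) := by
      have hc : Commute (ι (k * n)) t := c.comm _
      have e : t * ι k * ι n = t * ι (k * n) := by rw [map_mul, mul_assoc]
      have e3 : ι (k * n * (k * n) * (k * n)) = ι (k * n) * ι (k * n) * ι (k * n) := by
        rw [map_mul ι (k * n * (k * n)), map_mul ι (k * n) (k * n)]
      rw [e, e3]
      generalize ι (k * n) = u at hc
      calc t * u * (t * u) * (t * u)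
          = t * (u * t) * u * t * u := by group
        _ = t * (t * u) * u * t * u := by rw [hc.eq]
        _ = (t * t) * u * (u * t) * u := by group
        _ = u * (t * u) * u := by rw [c.tt, hc.eq]; group
        _ = (u * t) * u * u := by group
        _ = (t * u) * u * u := by rw [hc.eq]
        _ = _ := by group
    rw [h6] at key
    exact c.inj (mul_left_cancel key)
  -- `n ρ⁻¹ ∈ C(y)`
  have hρ : E h rho = ι (wd (fl s rho)) := mid (by decide)
  have r4 : wd (fl s [1]) * wd (fl s rho) = wd (fl s rho) * wd (fl s [5]) := by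
    have h1 : okC ([1] ++ rho) (rho ++ [5]) = true := by decide +kernel
    have h2 := eqC ho h1
    rw [mid (w := [1] ++ rho) (by decide), mid (w := rho ++ [5]) (by decide)] at h2
    have h3 := c.inj h2
    rwa [fl_append, fl_append, wd_append, wd_append] at h3
  have hy : wd (fl s [1]) = y := by
    rcases hs with rfl | rfl <;> exact wd_y
  have hz : (n * (wd (fl s rho))⁻¹) * y = y * (n * (wd (fl s rho))⁻¹) := by
    rw [← hy]
    calc n * (wd (fl s rho))⁻¹ * wd (fl s [1])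
        = n * (wd (fl s rho))⁻¹ * (wd (fl s [1]) * wd (fl s rho)) * (wd (fl s rho))⁻¹ := by group
      _ = n * wd (fl s [5]) * (wd (fl s rho))⁻¹ := by rw [r4]; group
      _ = wd (fl s [1]) * n * (wd (fl s rho))⁻¹ := by rw [m4]
      _ = _ := by group
  obtain ⟨l, hl, hl'⟩ := mem_cy _ hz
  have hn' : n = wd (l ++ fl s rho) := by rw [wd_append, hl']; group
  have test : testV s l = true := by
    rcases hs with rfl | rfl
    · exact List.all_eq_true.mp testV1 l hl
    · exact List.all_eq_true.mp testV2 l hl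
  rw [testV] at test
  simp only [Bool.or_eq_true, Bool.not_eq_true'] at test
  have nf : ∀ {a b : List ℕ}, wd a = wd b → ¬ eqW a b = false := by
    intro a b hab hf
    rw [eqW_of_wd hab] at hf
    exact Bool.noConfusion hf
  rcases test with ((((test | test) | test) | test) | test) | test
  · exact absurd test (nf (by rw [wd_append, wd_append _ (fl s [1]), ← hn']; exact m1))
  · exact absurd test (nf (by rw [wd_append, wd_append _ (fl s [1, 2, 5]), ← hn']; exact m2))
  · exact absurd test (nf (by rw [wd_append, wd_append _ (fl s [1, 3, 5]), ← hn']; exact m3))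
  · refine absurd test (nf ?_)
    rw [wd_append, wd_append (fl s [1, 2, 3, 2, 4, 3, 2, 5, 4, 3, 2] ++ (l ++ fl s rho)), wd_append, ← hn', ← m5]
    group
  · left
    rw [hn, hn', wd_append, wd_eq test, wd_nil, one_mul, ← hρ]
  · right
    rw [hn, hn', wd_append, wd_eq test, map_mul, ← hρ, ← mid (w := [5]) (by decide)]
    simp [E]

/-- letters of `Lam` -/
def lam (x s t m g : G) : ℕ → G
  | 0 => x
  | 1 => s
  | 2 => t
  | 3 => m
  | 4 => m⁻¹
  | 5 => g
  | 6 => g⁻¹
  | _ => 1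

/-- letters of `Sev` -/
def sev (m g : G) : ℕ → G
  | 0 => m
  | 1 => m⁻¹
  | 2 => g
  | 3 => g⁻¹
  | _ => 1

/-- the bad case collapses -/
theorem lam_one {x s t m g : G} (xx : x * x = 1) (ss : s * s = 1) (tt : t * t = 1) (mmm : m * (m * m) = 1)
    (ggg : g * (g * g) = 1) (xs : x * (s * (x * s)) = 1) (tx : t * (x * (t * x)) = 1) (ts : t * (s * (t * s)) = 1)
    (tm : t * m = m * t) (xm : x * m = m * s) (sm : s * m = m * (x * s)) (tg : t * g = g * x)
    (xg : x * g = g * (t * x)) (sg : s * g = g * (x * (t * s))) (bad : g⁻¹ * (m * g * m⁻¹) * g = s * m) : t = 1 := by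
  have hinv : ∀ k, k < 7 → lam x s t m g k * lam x s t m g (LamData.C.inv k) = 1 := by
    intro k hk
    interval_cases k
    · exact xx
    · exact ss
    · exact tt
    · exact mul_inv_cancel m
    · exact inv_mul_cancel m
    · exact mul_inv_cancel g
    · exact inv_mul_cancel g
  have cm : ∀ {a b : G}, a * a = 1 → b * b = 1 → a * (b * (a * b)) = 1 → a * b = b * a := by
    intro a b ha hb hab
    have h1 : (a * b) * (a * b) = 1 := by rw [← hab]; group
    rw [← inv_eq_of_mul_eq_one_left h1, mul_inv_rev, inv_eq_of_mul_eq_one_left ha, inv_eq_of_mul_eq_one_left hb]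
  have cxs := cm xx ss xs
  have ctx := cm tt xx tx
  have cts := cm tt ss ts
  have hrel : ∀ r ∈ LamData.rels, ev (lam x s t m g) r = 1 := by
    intro r hr
    unfold LamData.rels at hr
    simp only [List.mem_cons, List.not_mem_nil, or_false] at hr
    rcases hr with rfl | rfl | rfl | rfl | rfl | rfl | rfl | rfl | rfl | rfl | rfl | rfl
    · show m * (m * (m * 1)) = 1
      rw [mul_one]; exact mmm
    · show g * (g * (g * 1)) = 1
      rw [mul_one]; exact ggg
    · show x * (s * (x * (s * 1))) = 1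
      rw [mul_one]; exact xs
    · show t * (x * (t * (x * 1))) = 1
      rw [mul_one]; exact tx
    · show t * (s * (t * (s * 1))) = 1
      rw [mul_one]; exact ts
    · show t * (m⁻¹ * (t * (m * 1))) = 1
      rw [mul_one, tm, inv_mul_cancel_left, tt]
    · show m⁻¹ * (x * (m * (s * 1))) = 1
      rw [mul_one, ← mul_assoc x, xm, mul_assoc, inv_mul_cancel_left, ss]
    · show g⁻¹ * (t * (g * (x * 1))) = 1
      rw [mul_one, ← mul_assoc t, tg, mul_assoc, inv_mul_cancel_left, xx]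
    · show m⁻¹ * (s * (m * (s * (x * 1)))) = 1
      rw [mul_one, ← mul_assoc s m, sm, mul_assoc, inv_mul_cancel_left, mul_assoc, ← mul_assoc s s, ss, one_mul, xx]
    · show g⁻¹ * (x * (g * (x * (t * 1)))) = 1
      rw [mul_one, ← mul_assoc x g, xg, mul_assoc, inv_mul_cancel_left, mul_assoc, ← mul_assoc x x, xx, one_mul, tt]
    · show g⁻¹ * (s * (g * (x * (t * (s * 1))))) = 1
      rw [mul_one, ← mul_assoc s g, sg, mul_assoc, inv_mul_cancel_left]
      calc x * (t * s) * (x * (t * s)) = x * (t * (s * x) * t * s) := by group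
        _ = x * (t * (x * s) * t * s) := by rw [cxs]
        _ = x * ((t * x) * s * t * s) := by group
        _ = x * ((x * t) * s * t * s) := by rw [ctx]
        _ = (x * x) * (t * (s * (t * s))) := by group
        _ = 1 := by rw [xx, ts, one_mul]
    · show g⁻¹ * (m * (g * (m⁻¹ * (g * (m⁻¹ * (s * 1)))))) = 1
      rw [mul_one]
      calc g⁻¹ * (m * (g * (m⁻¹ * (g * (m⁻¹ * s))))) = (g⁻¹ * (m * g * m⁻¹) * g) * m⁻¹ * s := by group
        _ = 1 := by rw [bad, mul_inv_cancel_right, ss]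
  have := Lam.eq_one (lam x s t m g) hinv hrel [2] (by unfold LamData.targets; simp)
  have h2 : t * 1 = 1 := this
  rwa [mul_one] at h2

/-- `(R*)` gives `7 : 3` -/
theorem sev_one {m g : G} (mmm : m * (m * m) = 1) (ggg : g * (g * g) = 1) (star : g⁻¹ * (m * g * m⁻¹) * g = m) :
    g * (m * (g * (m * (g * m)))) = 1 ∧
      g * (m⁻¹ * (g * (m⁻¹ * (g * (m⁻¹ * (g * (m⁻¹ * (g * (m⁻¹ * (g * (m⁻¹ * (g * m⁻¹)))))))))))) = 1 := by
  have hinv : ∀ k, k < 4 → sev m g k * sev m g (SevData.C.inv k) = 1 := by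
    intro k hk
    interval_cases k
    · exact mul_inv_cancel m
    · exact inv_mul_cancel m
    · exact mul_inv_cancel g
    · exact inv_mul_cancel g
  have hrel : ∀ r ∈ SevData.rels, ev (sev m g) r = 1 := by
    intro r hr
    unfold SevData.rels at hr
    simp only [List.mem_cons, List.not_mem_nil, or_false] at hr
    rcases hr with rfl | rfl | rfl
    · show m * (m * (m * 1)) = 1
      rw [mul_one]; exact mmm
    · show g * (g * (g * 1)) = 1
      rw [mul_one]; exact ggg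
    · show g⁻¹ * (m * (g * (m⁻¹ * (g * (m⁻¹ * 1))))) = 1
      rw [mul_one]
      calc g⁻¹ * (m * (g * (m⁻¹ * (g * m⁻¹)))) = (g⁻¹ * (m * g * m⁻¹) * g) * m⁻¹ := by group
        _ = 1 := by rw [star, mul_inv_cancel]
  have h1 := Sev.eq_one (sev m g) hinv hrel [2, 0, 2, 0, 2, 0] (by unfold SevData.targets; simp)
  have h2 := Sev.eq_one (sev m g) hinv hrel [2, 1, 2, 1, 2, 1, 2, 1, 2, 1, 2, 1, 2, 1] (by unfold SevData.targets; simp)
  have h1' : g * (m * (g * (m * (g * (m * 1))))) = 1 := h1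
  have h2' : g * (m⁻¹ * (g * (m⁻¹ * (g * (m⁻¹ * (g * (m⁻¹ * (g * (m⁻¹ * (g * (m⁻¹ * (g * (m⁻¹ * 1))))))))))))) = 1 :=
    h2
  rw [mul_one] at h1' h2'
  exact ⟨h1', h2'⟩

theorem rho3 (ho : Out t ι g0 h) : E h rho * (E h rho * E h rho) = 1 := by
  have := eqC ho (w := rho ++ (rho ++ rho)) (w' := []) (by decide +kernel)
  rwa [E_append, E_append, E_nil] at this

/-- **(R\*)** the exactness relation -/
theorem star (c : Fusion.Ctx t ι) (ho : Out t ι g0 h) :
    (h 7)⁻¹ * (E h rho * h 7 * (E h rho)⁻¹) * h 7 = E h rho := by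
  rcases main c ho with hm | hm
  · exact hm
  · exfalso
    have a1 : h 7 * (h 7 * h 7) = 1 := by rw [← mul_assoc]; exact cube ho
    have a2 : h 1 * (h 5 * (h 1 * h 5)) = 1 := by
      have := eqC ho (w := [1, 5, 1, 5]) (w' := []) (by decide +kernel)
      simpa [E] using this
    have a3 : h 0 * (h 1 * (h 0 * h 1)) = 1 := by
      have := eqC ho (w := [0, 1, 0, 1]) (w' := []) (by decide +kernel)
      simpa [E] using this
    have a4 : h 0 * (h 5 * (h 0 * h 5)) = 1 := by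
      have := eqC ho (w := [0, 5, 0, 5]) (w' := []) (by decide +kernel)
      simpa [E] using this
    have b0 : h 0 * E h rho = E h rho * h 0 := by
      have := eqC ho (w := [0] ++ rho) (w' := rho ++ [0]) (by decide +kernel)
      rw [E_append, E_append] at this
      simpa [E] using this
    have b1 : h 1 * E h rho = E h rho * h 5 := by
      have := eqC ho (w := [1] ++ rho) (w' := rho ++ [5]) (by decide +kernel)
      rw [E_append, E_append] at this
      simpa [E] using this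
    have b5 : h 5 * E h rho = E h rho * (h 1 * h 5) := by
      have := eqC ho (w := [5] ++ rho) (w' := rho ++ [1, 5]) (by decide +kernel)
      rw [E_append, E_append] at this
      simpa [E] using this
    have d0 : h 0 * h 7 = h 7 * h 1 := c0 ho
    have d1 : h 1 * h 7 = h 7 * (h 0 * h 1) := c1 ho
    have d5 : h 5 * h 7 = h 7 * (h 1 * (h 0 * h 5)) := ck ho (by decide) (by decide)
    have h1 := lam_one (sq ho (by decide)) (sq ho (by decide)) (sq ho (by decide)) (rho3 ho) a1 a2 a3 a4 b0 b1 b5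
      d0 d1 d5 hm
    rw [ho.zero] at h1
    exact c.t_ne h1

/-- the word of `(R*)` -/
def starW : List (Fin 8) := [7, 7] ++ (rho ++ ([7] ++ (rho.reverse ++ ([7] ++ rho.reverse))))

/-- the word `(g ρ)³` -/
def r3W : List (Fin 8) := [7] ++ (rho ++ ([7] ++ (rho ++ ([7] ++ rho))))

/-- the word `(g ρ⁻¹)⁷` -/
def r4W : List (Fin 8) := [7] ++ (rho.reverse ++ ([7] ++ (rho.reverse ++ ([7] ++ (rho.reverse ++ ([7] ++
  (rho.reverse ++ ([7] ++ (rho.reverse ++ ([7] ++ (rho.reverse ++ ([7] ++ rho.reverse))))))))))))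

theorem starW_one (c : Fusion.Ctx t ι) (ho : Out t ι g0 h) : (starW.map h).prod = 1 := by
  have h7 : E h [7] = h 7 := by simp [E]
  have h77' : E h [7, 7] = (h 7)⁻¹ := by rw [← h77 ho]; simp [E]
  show E h starW = 1
  unfold starW
  rw [E_append, E_append, E_append, E_append, E_append, E_reverse ho (by decide), h7, h77']
  calc (h 7)⁻¹ * (E h rho * (h 7 * ((E h rho)⁻¹ * (h 7 * (E h rho)⁻¹))))
      = ((h 7)⁻¹ * (E h rho * h 7 * (E h rho)⁻¹) * h 7) * (E h rho)⁻¹ := by group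
    _ = 1 := by rw [star c ho, mul_inv_cancel]

theorem r3W_one (c : Fusion.Ctx t ι) (ho : Out t ι g0 h) : (r3W.map h).prod = 1 := by
  have h7 : E h [7] = h 7 := by simp [E]
  show E h r3W = 1
  unfold r3W
  rw [E_append, E_append, E_append, E_append, E_append, h7]
  exact (sev_one (rho3 ho) (by rw [← mul_assoc]; exact cube ho) (star c ho)).1

theorem r4W_one (c : Fusion.Ctx t ι) (ho : Out t ι g0 h) : (r4W.map h).prod = 1 := by
  have h7 : E h [7] = h 7 := by simp [E]
  show E h r4W = 1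
  unfold r4W
  simp only [E_append, h7, E_reverse ho (w := rho) (by decide)]
  exact (sev_one (rho3 ho) (by rw [← mul_assoc]; exact cube ho) (star c ho)).2

end Cfsg.Agent.CoThreeStd.RStar
end

-- part: CoThreeStd/NOne
section
/-!
# S1750: the output (N1) (helper178)
-/

set_option autoImplicit false

namespace Cfsg.Agent.CoThreeStd.NOne

open Cfsg Cfsg.Agent.CoThreeStd.RelMain Cfsg.Agent.CoThreeStd.MTwelve Cfsg.Agent.CoThreeStd.Model
  Cfsg.Agent.LeechPack.X552

universe u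

variable {G : Type*} [Group G] {t g0 : G} {ι : H →* G} {h : Fin 8 → G}

/-- `(dρ)³ = 1` and `(dρ⁻¹)⁷ = 1` -/
theorem pow_one (c : Fusion.Ctx t ι) (ho : Out t ι g0 h) :
    (h 7 * (GlueF.rhoS.map h).prod) ^ 3 = 1 ∧ (h 7 * ((GlueF.rhoS.map h).prod)⁻¹) ^ 7 = 1 := by
  have h1 := RStar.sev_one (RStar.rho3 ho) (by rw [← mul_assoc]; exact RStar.cube ho) (RStar.star c ho)
  have e : (GlueF.rhoS.map h).prod = RStar.E h RStar.rho := rfl
  rw [e]
  refine ⟨?_, ?_⟩
  · rw [← h1.1]; simp only [pow_succ, pow_zero, one_mul, mul_assoc]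
  · rw [← h1.2]; simp only [pow_succ, pow_zero, one_mul, mul_assoc]

theorem nOne : GlueF.NOne.{u} := fun c ho => pow_one c ho

/-- `(R*)` is a relator of the model -/
theorem star_ok : idCheck RStar.starW = true := by decide +kernel

end Cfsg.Agent.CoThreeStd.NOne
end

-- part: CoThreeStd/Bound/BetaFin
section
/-!
# S1750 (N3): the bound for the final relator list
-/

set_option autoImplicit false

namespace Cfsg.Agent.CoThreeStd.Bound.BetaFin

open Cfsg.Agent.CoThreeStd.GlueF Cfsg.Agent.CoThreeStd.Model Cfsg.Agent.CoThreeStd.Bound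
  Cfsg.Agent.CoThreeStd.Bound.RelF Cfsg.Agent.CoThreeStd.GlueB

universe u

section hom

variable {K : Type*} [Group K] {h : Fin 8 → K} {φ : K12 →* K}

theorem comm_phi (hR : Rels h) (hφ : ∀ i : Fin 6, φ (kl i) = h ⟨i + 1, by omega⟩) (m : K12) :
    h 0 * φ m = φ m * h 0 := by
  have hm : m ∈ Subgroup.closure (Set.range kl) := by rw [closure_kl]; exact Subgroup.mem_top m
  induction hm using Subgroup.closure_induction with
  | mem x hx =>
    obtain ⟨i, rfl⟩ := hx
    rw [hφ]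
    exact hR.comm i
  | one => rw [map_one, mul_one, one_mul]
  | mul x y _ _ hx hy => rw [map_mul, ← mul_assoc, hx, mul_assoc, hy, mul_assoc]
  | inv x _ hx =>
    rw [map_inv]
    have h1 : (Commute (h 0) (φ x)) := hx
    exact h1.inv_right.eq

theorem gen (hφ : ∀ i : Fin 6, φ (kl i) = h ⟨i + 1, by omega⟩) (hgen : Subgroup.closure (Set.range h) = ⊤) :
    Subgroup.closure (Set.range φ ∪ {h 0, h 7}) = ⊤ := by
  rw [eq_top_iff, ← hgen, Subgroup.closure_le]
  rintro _ ⟨k, rfl⟩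
  by_cases h0 : k = 0
  · subst h0; exact Subgroup.subset_closure (Or.inr (Or.inl rfl))
  by_cases h7 : k = 7
  · subst h7; exact Subgroup.subset_closure (Or.inr (Or.inr rfl))
  have hk : ∃ i : Fin 6, k = ⟨i + 1, by omega⟩ := by
    have h8 := k.isLt
    have hk0 : k.val ≠ 0 := fun h => h0 (Fin.ext h)
    have hk7 : k.val ≠ 7 := fun h => h7 (Fin.ext h)
    exact ⟨⟨k.val - 1, by omega⟩, Fin.ext (by simp; omega)⟩
  obtain ⟨i, rfl⟩ := hk
  exact Subgroup.subset_closure (Or.inl ⟨kl i, hφ i⟩)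

/-- The homomorphism from `K₁₂ × 2`. -/
noncomputable def psiH (hR : Rels h) (hφ : ∀ i : Fin 6, φ (kl i) = h ⟨i + 1, by omega⟩) : DC.Psi.C →* K :=
  DC.Psi.psi φ (h 0) hR.tt (comm_phi hR hφ)

theorem psi_ga (hR : Rels h) (hφ : ∀ i : Fin 6, φ (kl i) = h ⟨i + 1, by omega⟩) (q : ℕ) (hq : q < 7) :
    psiH hR hφ (DC.Psi.ga q) = h ⟨q, by omega⟩ := by
  rcases Nat.eq_zero_or_pos q with rfl | hpos
  · rw [DC.Psi.ga_zero]
    exact DC.Psi.psi_tau _ _ _ _
  · obtain ⟨i, rfl⟩ : ∃ i : ℕ, q = i + 1 := ⟨q - 1, by omega⟩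
    rw [show DC.Psi.ga (i + 1) = (kl ⟨i, by omega⟩, 1) from DC.Psi.ga_succ ⟨i, by omega⟩]
    exact (DC.Psi.psi_one _ _ _ _ _).trans (hφ ⟨i, by omega⟩)

theorem psi_word (hR : Rels h) (hφ : ∀ i : Fin 6, φ (kl i) = h ⟨i + 1, by omega⟩) (l : List (Fin 8))
    (hl : ∀ k ∈ l, k.val < 7) :
    psiH hR hφ ((l.map fun k => DC.Psi.ga k.val).prod) = (l.map h).prod := by
  induction l with
  | nil => simp
  | cons i l ih =>
    rw [List.map_cons, List.prod_cons, map_mul, ih fun k hk => hl k (List.mem_cons_of_mem _ hk),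
      psi_ga hR hφ i.val (hl i List.mem_cons_self), List.map_cons, List.prod_cons]

/-- The code of a word. -/
noncomputable def cw (l : List (Fin 8)) : ℕ :=
  l.foldr (fun k a => DC.Eng.mulN (DC.Psi.gaN k.val) a) DC.Eng.idN

theorem cd_word (l : List (Fin 8)) : DC.Psi.md.cd ((l.map fun k => DC.Psi.ga k.val).prod) = cw l := by
  induction l with
  | nil => exact DC.Psi.md.one
  | cons i l ih =>
    rw [List.map_cons, List.prod_cons, ← DC.Psi.md.mul, ih, DC.Psi.cd_ga, cw, cw, List.foldr_cons]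

theorem cd_letters : ∀ q < 7, DC.Psi.gaN q = DC.Eng.at64 Base.lT q := by decide +kernel

theorem lets : Base.Lets DC.Psi.md DC.Psi.ga :=
  ⟨fun q hq => by rw [DC.Psi.cd_ga, cd_letters q hq], DC.Psi.closure_ga⟩

theorem w0 : cw [] = DC.Eng.at64 Data.tabs.W 0 := by decide +kernel
theorem w1 : cw [6, 5] = DC.Eng.at64 Data.tabs.W 1 := by decide +kernel
theorem w2 : cw rhoS = DC.Eng.at64 Data.tabs.W 2 := by decide +kernel
theorem w3 : cw rhoS.reverse = DC.Eng.at64 Data.tabs.W 3 := by decide +kernel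
theorem x0 : DC.Sound.expo Data.tabs 0 = 2 := by decide +kernel
theorem x1 : DC.Sound.expo Data.tabs 1 = 2 := by decide +kernel
theorem x2 : DC.Sound.expo Data.tabs 2 = 2 := by decide +kernel
theorem x3 : DC.Sound.expo Data.tabs 3 = 6 := by decide +kernel

theorem conj (hR : Rels h) (hφ : ∀ i : Fin 6, φ (kl i) = h ⟨i + 1, by omega⟩) :
    Base.Conj DC.Psi.ga (psiH hR hφ) (h 7) where
  c0 := by rw [psi_ga hR hφ 0 (by norm_num), psi_ga hR hφ 1 (by norm_num)]; exact hR.tg
  c1 := by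
    rw [map_mul, psi_ga hR hφ 0 (by norm_num), psi_ga hR hφ 1 (by norm_num)]; exact hR.yg
  ci i h1 h2 := by
    obtain ⟨k, rfl⟩ : ∃ k : ℕ, i = k + 2 := ⟨i - 2, by omega⟩
    rw [map_mul, psi_ga hR hφ 0 (by norm_num), psi_ga hR hφ (k + 2) (by omega)]
    exact hR.tsg ⟨k, by omega⟩

theorem relW (hR : Rels h) (hφ : ∀ i : Fin 6, φ (kl i) = h ⟨i + 1, by omega⟩) :
    Base.RelW DC.Psi.md (psiH hR hφ) (h 7) := by
  intro e he
  interval_cases e
  · refine ⟨_, (cd_word []).trans w0, ?_⟩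
    rw [psi_word hR hφ _ (by simp), x0, List.map_nil, List.prod_nil, one_mul]
    exact hR.ggg
  · refine ⟨_, (cd_word [6, 5]).trans w1, ?_⟩
    rw [psi_word hR hφ _ (by decide), x1]
    simpa using hR.r1
  · refine ⟨_, (cd_word rhoS).trans w2, ?_⟩
    rw [psi_word hR hφ _ (by decide), x2]
    exact hR.r3
  · refine ⟨_, (cd_word rhoS.reverse).trans w3, ?_⟩
    rw [psi_word hR hφ _ (by decide), x3, hR.rho_rev]
    exact hR.r4

end hom

theorem bound_RF : Bound.{u} RF := by
  intro K _ h hrel hgen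
  have hR : Rels h := hrel
  obtain ⟨φ, hφ⟩ := hR.exists_phi
  refine Base.bound lets DC.Psi.card_C (conj hR hφ) (relW hR hφ) ?_
  rw [eq_top_iff, ← gen hφ hgen, Subgroup.closure_le]
  rintro x (⟨m, rfl⟩ | rfl | rfl)
  · exact Subgroup.subset_closure (Or.inl ⟨(m, 1), DC.Psi.psi_one _ _ _ _ _⟩)
  · exact Subgroup.subset_closure (Or.inl ⟨(1, DC.Psi.tau), DC.Psi.psi_tau _ _ _ _⟩)
  · exact Subgroup.subset_closure (Or.inr rfl)

/-- **Parts [A] and [B] of S1750.** -/
theorem betaIso : Core.BetaIso.{u} :=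
  GlueF.betaIso NOne.nOne RF RF_okF RF_id bound_RF

end Cfsg.Agent.CoThreeStd.Bound.BetaFin
end
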